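import Mathlib

/-!
# Polynomial group laws on the affine line

A polynomial `m(x, y)` over a field `k` defining a group law with unit `c` on (the underlying
set of) every `k`-algebra is `x + y - c`.
-/

set_option autoImplicit false
universe u

open Polynomial

namespace Groth.Agent.Lib.Helper19.GaGm

variable {k : Type u} [Field k]

/-- The binary operation defined by a polynomial in two variables. -/
noncomputable def polyOp (m : MvPolynomial (Fin 2) k) {A : Type u} [CommRing A] (f : k →+* A)
    (α β : A) : A := MvPolynomial.eval₂Hom f ![α, β] m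

lemma map_polyOp (m : MvPolynomial (Fin 2) k) {A B : Type u} [CommRing A] [CommRing B]
    (f : k →+* A) (φ : A →+* B) (α β : A) :
    φ (polyOp m f α β) = polyOp m (φ.comp f) (φ α) (φ β) := by
  unfold polyOp
  rw [MvPolynomial.map_eval₂Hom]
  congr 2
  funext i
  fin_cases i <;> rfl

lemma polyOp_X (m : MvPolynomial (Fin 2) k) :
    polyOp m (MvPolynomial.C : k →+* MvPolynomial (Fin 2) k) (MvPolynomial.X 0)
      (MvPolynomial.X 1) = m := by
  unfold polyOp
  have : (![MvPolynomial.X 0, MvPolynomial.X 1] : Fin 2 → MvPolynomial (Fin 2) k) =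
      MvPolynomial.X := by
    funext i
    fin_cases i <;> rfl
  rw [this]
  exact MvPolynomial.eval₂_eta m

/-- `polyOp m f` is a group law on `A` with unit `f c`. -/
structure IsGroupLaw (m : MvPolynomial (Fin 2) k) (c : k) {A : Type u} [CommRing A]
    (f : k →+* A) : Prop where
  assoc : ∀ α β γ : A, polyOp m f (polyOp m f α β) γ = polyOp m f α (polyOp m f β γ)
  one_right : ∀ α : A, polyOp m f α (f c) = α
  one_left : ∀ α : A, polyOp m f (f c) α = α
  inv : ∀ α : A, ∃ β, polyOp m f α β = f c

lemma IsGroupLaw.of_ringEquiv {m : MvPolynomial (Fin 2) k} {c : k} {A B : Type u} [CommRing A]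
    [CommRing B] {f : k →+* A} (H : IsGroupLaw m c f) (e : A ≃+* B) :
    IsGroupLaw m c ((e : A →+* B).comp f) := by
  have key : ∀ α β : A, polyOp m ((e : A →+* B).comp f) (e α) (e β) = e (polyOp m f α β) :=
    fun α β => (map_polyOp m f (e : A →+* B) α β).symm
  have hsurj : ∀ b : B, ∃ a : A, e a = b := e.surjective
  refine ⟨fun α β γ => ?_, fun α => ?_, fun α => ?_, fun α => ?_⟩
  · obtain ⟨α, rfl⟩ := hsurj α
    obtain ⟨β, rfl⟩ := hsurj β
    obtain ⟨γ, rfl⟩ := hsurj γ
    rw [key, key, key, key, H.assoc]
  · obtain ⟨α, rfl⟩ := hsurj α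
    change polyOp m _ (e α) (e (f c)) = _
    rw [key, H.one_right]
  · obtain ⟨α, rfl⟩ := hsurj α
    change polyOp m _ (e (f c)) (e α) = _
    rw [key, H.one_left]
  · obtain ⟨α, rfl⟩ := hsurj α
    obtain ⟨β, hβ⟩ := H.inv α
    refine ⟨e β, ?_⟩
    rw [key, hβ]
    rfl

theorem polyOp_eq_of_group_law (m : MvPolynomial (Fin 2) k) (c : k)
    (hassoc : ∀ (A : Type u) [CommRing A] (f : k →+* A) (α β γ : A),
      polyOp m f (polyOp m f α β) γ = polyOp m f α (polyOp m f β γ))
    (hone_right : ∀ (A : Type u) [CommRing A] (f : k →+* A) (α : A), polyOp m f α (f c) = α)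
    (hone_left : ∀ (A : Type u) [CommRing A] (f : k →+* A) (α : A), polyOp m f (f c) α = α)
    (hinv : ∀ (A : Type u) [CommRing A] (f : k →+* A) (α : A), ∃ β, polyOp m f α β = f c) :
    m = MvPolynomial.X 0 + MvPolynomial.X 1 - MvPolynomial.C c := by
  let fD : k →+* k[X] := C
  let fR : k →+* k[X][X] := (C : k[X] →+* k[X][X]).comp C
  let y : k[X] := X
  obtain ⟨ι, hι⟩ := hinv k[X] fD y
  let x : k[X][X] := X
  let Y : k[X][X] := C y
  let I : k[X][X] := C ι
  have h2 : polyOp m fR Y I = fR c := by
    have := map_polyOp m fD (C : k[X] →+* k[X][X]) y ι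
    rw [hι] at this
    exact this.symm
  let M : k[X][X] := polyOp m fR x Y
  let P : k[X][X] := polyOp m fR x I
  have h3 : polyOp m fR M I = x := by
    rw [hassoc, h2, hone_right]
  -- composition with `M`
  have h4 : P.comp M = x := by
    have hψ : (Polynomial.compRingHom M).comp fR = fR := by
      refine RingHom.ext fun a => ?_
      simp [fR]
    have := map_polyOp m fR (Polynomial.compRingHom M) x I
    rw [hψ] at this
    have e1 : Polynomial.compRingHom M x = M := by simp [x]
    have e2 : Polynomial.compRingHom M I = I := by simp [I]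
    rw [e1, e2, h3] at this
    exact this
  have hdeg : P.natDegree * M.natDegree = 1 := by
    rw [← Polynomial.natDegree_comp, h4]
    exact Polynomial.natDegree_X
  have hP1 : P.natDegree = 1 := Nat.eq_one_of_mul_eq_one_right hdeg
  have hM1 : M.natDegree = 1 := Nat.eq_one_of_mul_eq_one_left hdeg
  have hlc : P.leadingCoeff * M.leadingCoeff = 1 := by
    have := Polynomial.leadingCoeff_comp (p := P) (q := M) (by rw [hM1]; exact one_ne_zero)
    rw [h4, hP1, pow_one] at this
    rw [← this]
    exact Polynomial.leadingCoeff_X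
  have hunit : IsUnit M.leadingCoeff := IsUnit.of_mul_eq_one _ (by rw [mul_comm]; exact hlc)
  obtain ⟨a, ha, hMa⟩ := Polynomial.isUnit_iff.mp hunit
  have hMform : M = C (C a) * X + C (M.coeff 0) := by
    have := Polynomial.eq_X_add_C_of_natDegree_le_one (p := M) (by rw [hM1])
    have hc1 : M.coeff 1 = C a := by
      rw [hMa, Polynomial.leadingCoeff, hM1]
    rw [hc1] at this
    exact this
  -- evaluate at `x = c`
  have h8 : C a * C c + M.coeff 0 = y := by
    have hφ : (Polynomial.evalRingHom (C c : k[X])).comp fR = fD := by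
      refine RingHom.ext fun b => ?_
      simp [fR, fD]
    have h81 : Polynomial.evalRingHom (C c : k[X]) M = y := by
      have := map_polyOp m fR (Polynomial.evalRingHom (C c : k[X])) x Y
      rw [hφ] at this
      have e1 : Polynomial.evalRingHom (C c : k[X]) x = fD c := by simp [x, fD]
      have e2 : Polynomial.evalRingHom (C c : k[X]) Y = y := by simp [Y]
      rw [e1, e2, hone_left] at this
      exact this
    have h82 : Polynomial.evalRingHom (C c : k[X]) M = C a * C c + M.coeff 0 := by
      conv_lhs => rw [hMform]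
      rw [Polynomial.coe_evalRingHom, Polynomial.eval_add, Polynomial.eval_mul, Polynomial.eval_C,
        Polynomial.eval_C, Polynomial.eval_X]
    rw [← h82, h81]
  -- specialise `y = c`
  have h9 : a = 1 := by
    let θ : k[X][X] →+* k[X] := Polynomial.mapRingHom (Polynomial.evalRingHom c)
    have hθ : θ.comp fR = fD := by
      refine RingHom.ext fun b => ?_
      change Polynomial.map (Polynomial.evalRingHom c) (C (C b)) = C b
      rw [Polynomial.map_C, Polynomial.coe_evalRingHom, Polynomial.eval_C]
    have h91 : θ M = X := by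
      have := map_polyOp m fR θ x Y
      rw [hθ] at this
      have e1 : θ x = X := Polynomial.map_X _
      have e2 : θ Y = fD c := by
        change Polynomial.map (Polynomial.evalRingHom c) (C X) = C c
        rw [Polynomial.map_C, Polynomial.coe_evalRingHom, Polynomial.eval_X]
      rw [e1, e2, hone_right] at this
      exact this
    have h10 : θ M = C a * X + C ((M.coeff 0).eval c) := by
      conv_lhs => rw [hMform]
      change Polynomial.map (Polynomial.evalRingHom c) _ = _
      rw [Polynomial.map_add, Polynomial.map_mul, Polynomial.map_C, Polynomial.map_C,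
        Polynomial.map_X, Polynomial.coe_evalRingHom, Polynomial.eval_C]
    rw [h10] at h91
    have := congrArg (fun p => Polynomial.coeff p 1) h91
    simpa using this
  have h11 : M.coeff 0 = y - C c := by
    rw [← h8, h9]
    simp
  have hM : M = x + Y - fR c := by
    rw [hMform, h9, h11]
    simp only [x, Y, fR, map_one, one_mul, map_sub, RingHom.comp_apply]
    ring
  -- transport to the universal ring
  let Φ : k[X][X] →+* MvPolynomial (Fin 2) k :=
    Polynomial.eval₂RingHom (Polynomial.eval₂RingHom MvPolynomial.C (MvPolynomial.X 1))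
      (MvPolynomial.X 0)
  have hΦ : Φ.comp fR = MvPolynomial.C := by
    refine RingHom.ext fun b => ?_
    simp [Φ, fR]
  have e1 : Φ x = MvPolynomial.X 0 := by simp [Φ, x]
  have e2 : Φ Y = MvPolynomial.X 1 := by simp [Φ, Y, y]
  have h12 : Φ M = m := by
    have := map_polyOp m fR Φ x Y
    rw [hΦ] at this
    rw [e1, e2, polyOp_X] at this
    exact this
  rw [← h12, hM, map_sub, map_add, e1, e2]
  congr 1
  exact congrArg (fun φ : k →+* MvPolynomial (Fin 2) k => φ c) hΦ

theorem eq_of_isGroupLaw (m : MvPolynomial (Fin 2) k) (c : k)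
    (H : ∀ (A : Type u) [CommRing A] (f : k →+* A), IsGroupLaw m c f) :
    m = MvPolynomial.X 0 + MvPolynomial.X 1 - MvPolynomial.C c :=
  polyOp_eq_of_group_law m c (fun A _ f => (H A f).assoc) (fun A _ f => (H A f).one_right)
    (fun A _ f => (H A f).one_left) (fun A _ f => (H A f).inv)

end Groth.Agent.Lib.Helper19.GaGm
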