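import Mathlib

/-!
# Morphisms from a `k`-scheme to an affine `k`-scheme
-/

set_option autoImplicit false
universe u

open CategoryTheory CategoryTheory.Limits AlgebraicGeometry Opposite

namespace Groth.Agent.Lib.Helper19.GaGm

variable {k : Type u} [Field k]

/-- The structure map `k → Γ(T)` of a `k`-scheme. -/
noncomputable def sectStr (T : Over (Spec (CommRingCat.of k))) :
    CommRingCat.of k ⟶ Γ(T.left, ⊤) :=
  (Scheme.ΓSpecIso (CommRingCat.of k)).inv ≫ T.hom.appTop

lemma sectStr_comp {T' T : Over (Spec (CommRingCat.of k))} (g : T' ⟶ T) :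
    sectStr T ≫ g.left.appTop = sectStr T' := by
  unfold sectStr
  rw [Category.assoc, ← Scheme.Hom.comp_appTop, Over.w]

lemma sectStr_comp_apply {T' T : Over (Spec (CommRingCat.of k))} (g : T' ⟶ T) (c : k) :
    g.left.appTop ((sectStr T).hom c) = (sectStr T').hom c := by
  rw [← sectStr_comp g]
  rfl

/-- The affine `k`-scheme attached to a `k`-algebra. -/
noncomputable abbrev specOver {R : CommRingCat.{u}} (a : CommRingCat.of k ⟶ R) :
    Over (Spec (CommRingCat.of k)) := Over.mk (Spec.map a)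

lemma sectStr_specOver {R : CommRingCat.{u}} (a : CommRingCat.of k ⟶ R) :
    sectStr (specOver a) = a ≫ (Scheme.ΓSpecIso R).inv := by
  unfold sectStr
  exact (Scheme.ΓSpecIso_inv_naturality a).symm

/-- The morphism from a `k`-scheme to an affine `k`-scheme attached to a map of `k`-algebras. -/
noncomputable def toSpecOver (T : Over (Spec (CommRingCat.of k))) {R : CommRingCat.{u}}
    (a : CommRingCat.of k ⟶ R) (ρ : R ⟶ Γ(T.left, ⊤)) (h : a ≫ ρ = sectStr T) :
    T ⟶ specOver a :=
  Over.homMk (ΓSpec.adjunction.homEquiv T.left (op R) ρ.op) (by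
    apply ext_to_Spec
    change (Scheme.ΓSpecIso (CommRingCat.of k)).inv ≫
      ((ΓSpec.adjunction.homEquiv T.left (op R)) ρ.op ≫ Spec.map a).appTop =
      (Scheme.ΓSpecIso (CommRingCat.of k)).inv ≫ T.hom.appTop
    rw [Scheme.Hom.comp_appTop, ← Category.assoc, ← Scheme.ΓSpecIso_inv_naturality,
      Category.assoc, ΓSpecIso_inv_ΓSpec_adjunction_homEquiv, h]
    rfl)

lemma toSpecOver_appTop (T : Over (Spec (CommRingCat.of k))) {R : CommRingCat.{u}}
    (a : CommRingCat.of k ⟶ R) (ρ : R ⟶ Γ(T.left, ⊤)) (h : a ≫ ρ = sectStr T) :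
    (Scheme.ΓSpecIso R).inv ≫ (toSpecOver T a ρ h).left.appTop = ρ :=
  ΓSpecIso_inv_ΓSpec_adjunction_homEquiv ρ

lemma toSpecOver_appTop_apply (T : Over (Spec (CommRingCat.of k))) {R : CommRingCat.{u}}
    (a : CommRingCat.of k ⟶ R) (ρ : R ⟶ Γ(T.left, ⊤)) (h : a ≫ ρ = sectStr T) (r : R) :
    (toSpecOver T a ρ h).left.appTop ((Scheme.ΓSpecIso R).inv r) = ρ r := by
  have := congrArg (fun φ => φ.hom r) (toSpecOver_appTop T a ρ h)
  exact this

end Groth.Agent.Lib.Helper19.GaGm
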