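import Mathlib
import Groth.Agent.Lib.Helper15.GaPts
import Groth.Agent.Lib.Helper19.GaGm.Pts
import Groth.Agent.Lib.Helper19.GaGm.GaLaw
import Groth.Agent.Lib.Helper19.Grp.Homogeneity

/-!
# Group laws on the affine line over a field are determined by their unit
-/

set_option autoImplicit false
universe u

open CategoryTheory CategoryTheory.Limits AlgebraicGeometry MonoidalCategory
  CartesianMonoidalCategory MonObj GrpObj Opposite
open Groth.Agent.Lib.Helper15.GaPts (ptOfFn gaFn_ptOfFn ptOfFn_gaFn gaFn_comp gaFn_injective)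

namespace Groth.Agent.Lib.Helper19.GaGm

variable {k : Type u} [Field k]

section

variable (h : GrpObj (Red.Ga (Spec (CommRingCat.of k))))

/-- multiplication of points for the group law `h` -/
noncomputable def hmul {T : Over (Spec (CommRingCat.of k))}
    (a b : T ⟶ Red.Ga (Spec (CommRingCat.of k))) : T ⟶ Red.Ga (Spec (CommRingCat.of k)) :=
  lift a b ≫ h.mul

/-- the unit point for the group law `h` -/
noncomputable def hone (T : Over (Spec (CommRingCat.of k))) :
    T ⟶ Red.Ga (Spec (CommRingCat.of k)) := toUnit T ≫ h.one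

/-- the inverse of a point for the group law `h` -/
noncomputable def hinv {T : Over (Spec (CommRingCat.of k))}
    (a : T ⟶ Red.Ga (Spec (CommRingCat.of k))) : T ⟶ Red.Ga (Spec (CommRingCat.of k)) :=
  a ≫ h.inv

lemma hmul_assoc {T : Over (Spec (CommRingCat.of k))}
    (a b c : T ⟶ Red.Ga (Spec (CommRingCat.of k))) :
    hmul h (hmul h a b) c = hmul h a (hmul h b c) := by
  letI := h
  exact _root_.mul_assoc a b c

lemma hmul_hone {T : Over (Spec (CommRingCat.of k))}
    (a : T ⟶ Red.Ga (Spec (CommRingCat.of k))) : hmul h a (hone h T) = a := by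
  letI := h
  exact _root_.mul_one a

lemma hone_hmul {T : Over (Spec (CommRingCat.of k))}
    (a : T ⟶ Red.Ga (Spec (CommRingCat.of k))) : hmul h (hone h T) a = a := by
  letI := h
  exact _root_.one_mul a

lemma hmul_hinv {T : Over (Spec (CommRingCat.of k))}
    (a : T ⟶ Red.Ga (Spec (CommRingCat.of k))) : hmul h a (hinv h a) = hone h T := by
  letI := h
  exact mul_inv_cancel a

lemma comp_hmul {T' T : Over (Spec (CommRingCat.of k))} (g : T' ⟶ T)
    (a b : T ⟶ Red.Ga (Spec (CommRingCat.of k))) :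
    g ≫ hmul h a b = hmul h (g ≫ a) (g ≫ b) := by
  letI := h
  exact MonObj.comp_mul g a b

/-- the universal base: the affine plane -/
noncomputable abbrev plane (k : Type u) [Field k] : Over (Spec (CommRingCat.of k)) :=
  specOver (CommRingCat.ofHom (MvPolynomial.C : k →+* MvPolynomial (Fin 2) k))

/-- the coordinate functions on the plane -/
noncomputable def coord (k : Type u) [Field k] (i : Fin 2) : Γ((plane k).left, ⊤) :=
  (Scheme.ΓSpecIso (CommRingCat.of (MvPolynomial (Fin 2) k))).inv (MvPolynomial.X i)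

/-- the polynomial giving the group law `h` -/
noncomputable def lawPoly : MvPolynomial (Fin 2) k :=
  (Scheme.ΓSpecIso (CommRingCat.of (MvPolynomial (Fin 2) k))).hom
    (Red.gaFn (hmul h (ptOfFn (coord k 0)) (ptOfFn (coord k 1))))

/-- the coordinate of the unit of the group law `h` -/
noncomputable def unitConst : k :=
  (Scheme.ΓSpecIso (CommRingCat.of k)).hom
    (Red.gaFn h.one : Γ(Spec (CommRingCat.of k), ⊤))

lemma gaFn_hone (T : Over (Spec (CommRingCat.of k))) :
    Red.gaFn (hone h T) = (sectStr T).hom (unitConst h) := by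
  unfold hone
  rw [gaFn_comp, toUnit_left_eq]
  unfold sectStr unitConst
  change _ = T.hom.appTop ((Scheme.ΓSpecIso (CommRingCat.of k)).inv
    ((Scheme.ΓSpecIso (CommRingCat.of k)).hom _))
  rw [Iso.hom_inv_id_apply]

/-- The group law `h` is given by the polynomial `lawPoly h`. -/
theorem gaFn_hmul {T : Over (Spec (CommRingCat.of k))}
    (a b : T ⟶ Red.Ga (Spec (CommRingCat.of k))) :
    Red.gaFn (hmul h a b) = polyOp (lawPoly h) (sectStr T).hom (Red.gaFn a) (Red.gaFn b) := by
  let ρ : CommRingCat.of (MvPolynomial (Fin 2) k) ⟶ Γ(T.left, ⊤) :=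
    CommRingCat.ofHom (MvPolynomial.eval₂Hom (sectStr T).hom ![Red.gaFn a, Red.gaFn b])
  have hρ : CommRingCat.ofHom (MvPolynomial.C : k →+* MvPolynomial (Fin 2) k) ≫ ρ = sectStr T := by
    ext c
    simp [ρ]
  let g : T ⟶ plane k := toSpecOver T _ ρ hρ
  have hg : ∀ r, g.left.appTop ((Scheme.ΓSpecIso (CommRingCat.of (MvPolynomial (Fin 2) k))).inv r)
      = ρ r := toSpecOver_appTop_apply T _ ρ hρ
  have ha : g ≫ ptOfFn (coord k 0) = a := by
    apply gaFn_injective
    change Red.gaFn (g ≫ ptOfFn (coord k 0)) = Red.gaFn a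
    rw [gaFn_comp, gaFn_ptOfFn]
    unfold coord
    rw [hg]
    simp [ρ]
  have hb : g ≫ ptOfFn (coord k 1) = b := by
    apply gaFn_injective
    change Red.gaFn (g ≫ ptOfFn (coord k 1)) = Red.gaFn b
    rw [gaFn_comp, gaFn_ptOfFn]
    unfold coord
    rw [hg]
    simp [ρ]
  have key : hmul h a b = g ≫ hmul h (ptOfFn (coord k 0)) (ptOfFn (coord k 1)) := by
    rw [comp_hmul, ha, hb]
  rw [key, gaFn_comp]
  have h1 : Red.gaFn (hmul h (ptOfFn (coord k 0)) (ptOfFn (coord k 1))) =
      (Scheme.ΓSpecIso (CommRingCat.of (MvPolynomial (Fin 2) k))).inv (lawPoly h) := by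
    unfold lawPoly
    rw [Iso.hom_inv_id_apply]
  rw [h1, hg]
  rfl

lemma polyOp_sectStr {T : Over (Spec (CommRingCat.of k))} (α β : Γ(T.left, ⊤)) :
    polyOp (lawPoly h) (sectStr T).hom α β = Red.gaFn (hmul h (ptOfFn α) (ptOfFn β)) := by
  rw [gaFn_hmul, gaFn_ptOfFn, gaFn_ptOfFn]

lemma ptOfFn_polyOp {T : Over (Spec (CommRingCat.of k))} (α β : Γ(T.left, ⊤)) :
    ptOfFn (polyOp (lawPoly h) (sectStr T).hom α β) = hmul h (ptOfFn α) (ptOfFn β) := by
  rw [polyOp_sectStr, ptOfFn_gaFn]

lemma ptOfFn_unit (T : Over (Spec (CommRingCat.of k))) :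
    ptOfFn ((sectStr T).hom (unitConst h)) = hone h T := by
  rw [← gaFn_hone, ptOfFn_gaFn]

/-- The polynomial `lawPoly h` defines a group law on the global sections of every `k`-scheme. -/
theorem isGroupLaw_sectStr (T : Over (Spec (CommRingCat.of k))) :
    IsGroupLaw (lawPoly h) (unitConst h) (sectStr T).hom := by
  refine ⟨fun α β δ => ?_, fun α => ?_, fun α => ?_, fun α => ?_⟩
  · rw [polyOp_sectStr h (polyOp _ _ α β) δ, polyOp_sectStr h α (polyOp _ _ β δ),
      ptOfFn_polyOp, ptOfFn_polyOp, hmul_assoc]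
  · rw [polyOp_sectStr, ptOfFn_unit, hmul_hone, gaFn_ptOfFn]
  · rw [polyOp_sectStr, ptOfFn_unit, hone_hmul, gaFn_ptOfFn]
  · refine ⟨Red.gaFn (hinv h (ptOfFn α)), ?_⟩
    rw [polyOp_sectStr, ptOfFn_gaFn, hmul_hinv, gaFn_hone]

/-- The polynomial `lawPoly h` defines a group law on every `k`-algebra. -/
theorem isGroupLaw (A : Type u) [CommRing A] (f : k →+* A) :
    IsGroupLaw (lawPoly h) (unitConst h) f := by
  let T := specOver (CommRingCat.ofHom f)
  let e : Γ(T.left, ⊤) ≃+* A := (Scheme.ΓSpecIso (CommRingCat.of A)).commRingCatIsoToRingEquiv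
  have := (isGroupLaw_sectStr h T).of_ringEquiv e
  have he : (e : Γ(T.left, ⊤) →+* A).comp (sectStr T).hom = f := by
    rw [sectStr_specOver]
    refine RingHom.ext fun c => ?_
    change (Scheme.ΓSpecIso (CommRingCat.of A)).hom
      ((Scheme.ΓSpecIso (CommRingCat.of A)).inv (f c)) = f c
    rw [Iso.inv_hom_id_apply]
  rwa [he] at this

theorem lawPoly_eq :
    lawPoly h = MvPolynomial.X 0 + MvPolynomial.X 1 - MvPolynomial.C (unitConst h) :=
  eq_of_isGroupLaw _ _ (isGroupLaw h)

end

/-- Two group laws on the affine line over a field with the same unit are equal. -/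
theorem ga_mul_eq_of_one_eq (h₁ h₂ : GrpObj (Red.Ga (Spec (CommRingCat.of k))))
    (e : h₁.one = h₂.one) : h₁.mul = h₂.mul := by
  have hc : unitConst h₁ = unitConst h₂ := by
    unfold unitConst
    rw [e]
  have hm : lawPoly h₁ = lawPoly h₂ := by
    rw [lawPoly_eq, lawPoly_eq, hc]
  have key : ∀ h : GrpObj (Red.Ga (Spec (CommRingCat.of k))),
      h.mul = hmul h (fst _ _) (snd _ _) := by
    intro h
    unfold hmul
    rw [lift_fst_snd, Category.id_comp]
  rw [key h₁, key h₂]
  apply gaFn_injective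
  change Red.gaFn (hmul h₁ _ _) = Red.gaFn (hmul h₂ _ _)
  rw [gaFn_hmul, gaFn_hmul, hm]

end Groth.Agent.Lib.Helper19.GaGm
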