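import Mathlib

/-!
# Units of Laurent polynomial rings and group laws on the punctured line
-/

set_option autoImplicit false
universe u

open LaurentPolynomial

namespace Groth.Agent.Lib.Helper19.GaGm

/-- The units of a Laurent polynomial ring over a domain are the monomials with unit
coefficient. -/
theorem exists_eq_C_mul_T_of_isUnit {D : Type*} [CommRing D] [IsDomain D] (p : D[T;T⁻¹])
    (hp : IsUnit p) : ∃ (d : D) (n : ℤ), IsUnit d ∧ p = C d * T n := by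
  obtain ⟨q, hq⟩ := hp.exists_right_inv
  obtain ⟨a, P, hP⟩ := exists_T_pow p
  obtain ⟨b, Q, hQ⟩ := exists_T_pow q
  have hPQ : P * Q = Polynomial.X ^ (a + b) := by
    apply Polynomial.toLaurent_injective
    rw [map_mul, hP, hQ, Polynomial.toLaurent_X_pow]
    calc p * T a * (q * T b) = (p * q) * (T a * T b) := by ring
      _ = T ((a + b : ℕ) : ℤ) := by rw [hq, one_mul, ← T_add]; push_cast; rfl
  have hdvd : P ∣ Polynomial.X ^ (a + b) := ⟨Q, hPQ.symm⟩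
  obtain ⟨i, -, hi⟩ := (dvd_prime_pow Polynomial.prime_X (a + b)).mp hdvd
  obtain ⟨w, hw⟩ := hi.symm
  obtain ⟨d, hd, hdw⟩ := Polynomial.isUnit_iff.mp w.isUnit
  refine ⟨d, (i : ℤ) - a, hd, ?_⟩
  have h1 : p * T a = T i * C d := by
    rw [← hP, ← hw, map_mul, Polynomial.toLaurent_X_pow, ← hdw, Polynomial.toLaurent_C]
  calc p = p * T a * T (-a) := by rw [mul_T_assoc, add_neg_cancel, T_zero, mul_one]
    _ = T i * C d * T (-a) := by rw [h1]
    _ = C d * (T i * T (-a)) := by ring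
    _ = C d * T ((i : ℤ) - a) := by rw [← T_add, sub_eq_add_neg]

/-- The unit `T 1` of a Laurent polynomial ring. -/
noncomputable def tUnit (R : Type*) [CommRing R] : (R[T;T⁻¹])ˣ :=
  ⟨T 1, T (-1), by rw [← T_add]; simp, by rw [← T_add]; simp⟩

@[simp] lemma val_tUnit (R : Type*) [CommRing R] : ((tUnit R : (R[T;T⁻¹])ˣ) : R[T;T⁻¹]) = T 1 := rfl

lemma val_tUnit_zpow (R : Type*) [CommRing R] (n : ℤ) :
    ((tUnit R ^ n : (R[T;T⁻¹])ˣ) : R[T;T⁻¹]) = T n := by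
  induction n using Int.induction_on with
  | zero => simp
  | succ i ih =>
    rw [zpow_add_one, Units.val_mul, ih, val_tUnit, ← T_add]
  | pred i ih =>
    have h1 : ((tUnit R)⁻¹ : (R[T;T⁻¹])ˣ).val = T (-1) := rfl
    rw [zpow_sub_one, Units.val_mul, ih, h1, ← T_add]
    rfl

variable {k : Type u} [Field k]

/-- The constant unit `C c` of the Laurent polynomial ring. -/
noncomputable def cUnit (c : k) (hc : c ≠ 0) : (k[T;T⁻¹])ˣ :=
  Units.map (C : k →+* k[T;T⁻¹]).toMonoidHom (Units.mk0 c hc)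

@[simp] lemma val_cUnit (c : k) (hc : c ≠ 0) : ((cUnit c hc : (k[T;T⁻¹])ˣ) : k[T;T⁻¹]) = C c := rfl

lemma val_cUnit_zpow (c : k) (hc : c ≠ 0) (n : ℤ) :
    ((cUnit c hc ^ n : (k[T;T⁻¹])ˣ) : k[T;T⁻¹]) = C (c ^ n) := by
  unfold cUnit
  rw [← map_zpow, Units.coe_map, Units.val_zpow_eq_zpow_val]
  rfl

/-- The binary operation on units defined by a Laurent polynomial in two variables. -/
noncomputable def gmOp (m : k[T;T⁻¹][T;T⁻¹]) {A : Type u} [CommRing A] (f : k →+* A)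
    (α β : Aˣ) : A := eval₂ (eval₂ f β) α m

lemma C_mul_T_eq_T_one {b : k} (hb : b ≠ 0) {n : ℤ} (h : (C b * T n : k[T;T⁻¹]) = T 1) :
    n = 1 ∧ b = 1 := by
  have hn : n = 1 := by
    have h1 := congrArg LaurentPolynomial.degree h
    rw [degree_C_mul_T n b hb, degree_T] at h1
    exact_mod_cast h1
  subst hn
  refine ⟨rfl, ?_⟩
  have h2 : (C b : k[T;T⁻¹]) = C 1 := by
    calc (C b : k[T;T⁻¹]) = C b * T 1 * T (-1) := by
          rw [mul_T_assoc]; simp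
      _ = T 1 * T (-1) := by rw [h]
      _ = C 1 := by rw [← T_add]; simp
  have h3 := congrArg (fun p : k[T;T⁻¹] => p.coeff 0) h2
  simpa using h3

/-- A unit Laurent polynomial `m(x, y)` with `m(x, c) = x` and `m(c, y) = y` is `x y / c`. -/
theorem gm_law_eq (m : k[T;T⁻¹][T;T⁻¹]) (hm : IsUnit m) (c : k) (hc : c ≠ 0)
    (h1 : gmOp m (C : k →+* k[T;T⁻¹]) (tUnit k) (cUnit c hc) = T 1)
    (h2 : gmOp m (C : k →+* k[T;T⁻¹]) (cUnit c hc) (tUnit k) = T 1) :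
    m = C (C c⁻¹ * T 1) * T 1 := by
  obtain ⟨v, n, hv, rfl⟩ := exists_eq_C_mul_T_of_isUnit m hm
  obtain ⟨a, j, ha, rfl⟩ := exists_eq_C_mul_T_of_isUnit v hv
  have ha0 : a ≠ 0 := ha.ne_zero
  unfold gmOp at h1 h2
  rw [eval₂_C_mul_T, eval₂_C_mul_T, val_tUnit_zpow, val_cUnit_zpow] at h1
  rw [eval₂_C_mul_T, eval₂_C_mul_T, val_tUnit_zpow, val_cUnit_zpow] at h2
  have e1 : (C (a * c ^ j) * T n : k[T;T⁻¹]) = T 1 := by
    rw [← h1, map_mul]
  have e2 : (C (a * c ^ n) * T j : k[T;T⁻¹]) = T 1 := by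
    rw [← h2, map_mul]
    ring
  have hcj : a * c ^ j ≠ 0 := mul_ne_zero ha0 (zpow_ne_zero _ hc)
  have hcn : a * c ^ n ≠ 0 := mul_ne_zero ha0 (zpow_ne_zero _ hc)
  obtain ⟨hn, h3⟩ := C_mul_T_eq_T_one hcj e1
  obtain ⟨hj, -⟩ := C_mul_T_eq_T_one hcn e2
  subst hn hj
  have ha' : a = c⁻¹ := by
    rw [zpow_one] at h3
    exact eq_inv_of_mul_eq_one_left h3
  rw [ha']

end Groth.Agent.Lib.Helper19.GaGm
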