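import Mathlib
import Groth.Prelude.Def_GmPts
import Groth.Agent.Lib.Helper19.GaGm.Pts
import Groth.Agent.Lib.Helper19.GaGm.GmLaw
import Groth.Agent.Lib.Helper19.Grp.Homogeneity

/-!
# Group laws on the punctured line over a field are determined by their unit
-/

set_option autoImplicit false
universe u

open CategoryTheory CategoryTheory.Limits AlgebraicGeometry MonoidalCategory
  CartesianMonoidalCategory MonObj GrpObj Opposite
open GmPts (ptOfUnit unitOfPt gmFn_ptOfUnit ptOfUnit_unitOfPt unitOfPt_ptOfUnit gmFn_comp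
  gmFn_injective isUnit_gmFn val_unitOfPt)
open LaurentPolynomial

namespace Groth.Agent.Lib.Helper19.GaGm.Gm

/-- Ring homomorphisms commute with evaluation of Laurent polynomials. -/
lemma map_eval₂ {R A B : Type*} [CommRing R] [CommRing A] [CommRing B] (f : R →+* A)
    (φ : A →+* B) (x : Aˣ) (p : R[T;T⁻¹]) :
    φ (LaurentPolynomial.eval₂ f x p) =
      LaurentPolynomial.eval₂ (φ.comp f) (Units.map φ.toMonoidHom x) p := by
  induction p using LaurentPolynomial.induction_on' with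
  | add p q hp hq => rw [map_add, map_add, map_add, hp, hq]
  | C_mul_T n a =>
    rw [eval₂_C_mul_T, eval₂_C_mul_T, map_mul, ← map_zpow, Units.coe_map]
    rfl

lemma comp_eval₂ {R A B : Type*} [CommRing R] [CommRing A] [CommRing B] (f : R →+* A)
    (φ : A →+* B) (x : Aˣ) :
    φ.comp (LaurentPolynomial.eval₂ f x) =
      LaurentPolynomial.eval₂ (φ.comp f) (Units.map φ.toMonoidHom x) :=
  RingHom.ext fun p => map_eval₂ f φ x p

variable {k : Type u} [Field k]

lemma map_gmOp (m : k[T;T⁻¹][T;T⁻¹]) {A B : Type u} [CommRing A] [CommRing B] (f : k →+* A)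
    (φ : A →+* B) (α β : Aˣ) :
    φ (gmOp m f α β) =
      gmOp m (φ.comp f) (Units.map φ.toMonoidHom α) (Units.map φ.toMonoidHom β) := by
  unfold gmOp
  rw [map_eval₂, comp_eval₂]

section

variable (h : GrpObj (Red.Gm (Spec (CommRingCat.of k))))

/-- multiplication of points for the group law `h` -/
noncomputable def hmul {T : Over (Spec (CommRingCat.of k))}
    (a b : T ⟶ Red.Gm (Spec (CommRingCat.of k))) : T ⟶ Red.Gm (Spec (CommRingCat.of k)) :=
  lift a b ≫ h.mul

/-- the unit point for the group law `h` -/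
noncomputable def hone (T : Over (Spec (CommRingCat.of k))) :
    T ⟶ Red.Gm (Spec (CommRingCat.of k)) := toUnit T ≫ h.one

lemma hmul_hone {T : Over (Spec (CommRingCat.of k))}
    (a : T ⟶ Red.Gm (Spec (CommRingCat.of k))) : hmul h a (hone h T) = a := by
  letI := h
  exact _root_.mul_one a

lemma hone_hmul {T : Over (Spec (CommRingCat.of k))}
    (a : T ⟶ Red.Gm (Spec (CommRingCat.of k))) : hmul h (hone h T) a = a := by
  letI := h
  exact _root_.one_mul a

lemma comp_hmul {T' T : Over (Spec (CommRingCat.of k))} (g : T' ⟶ T)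
    (a b : T ⟶ Red.Gm (Spec (CommRingCat.of k))) :
    g ≫ hmul h a b = hmul h (g ≫ a) (g ≫ b) := by
  letI := h
  exact MonObj.comp_mul g a b

/-- the structure map of the ring of Laurent polynomials in two variables -/
noncomputable abbrev strL₂ (k : Type u) [Field k] : k →+* k[T;T⁻¹][T;T⁻¹] :=
  (C : k[T;T⁻¹] →+* k[T;T⁻¹][T;T⁻¹]).comp (C : k →+* k[T;T⁻¹])

/-- the universal base: the two-dimensional torus -/
noncomputable abbrev torus₂ (k : Type u) [Field k] : Over (Spec (CommRingCat.of k)) :=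
  specOver (CommRingCat.ofHom (strL₂ k))

/-- the first coordinate on the torus -/
noncomputable def xU (k : Type u) [Field k] : (Γ((torus₂ k).left, ⊤))ˣ :=
  Units.map (Scheme.ΓSpecIso (CommRingCat.of k[T;T⁻¹][T;T⁻¹])).inv.hom.toMonoidHom
    (tUnit k[T;T⁻¹])

/-- the second coordinate on the torus -/
noncomputable def yU (k : Type u) [Field k] : (Γ((torus₂ k).left, ⊤))ˣ :=
  Units.map (Scheme.ΓSpecIso (CommRingCat.of k[T;T⁻¹][T;T⁻¹])).inv.hom.toMonoidHom
    (Units.map (C : k[T;T⁻¹] →+* k[T;T⁻¹][T;T⁻¹]).toMonoidHom (tUnit k))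

/-- the Laurent polynomial giving the group law `h` -/
noncomputable def lawElt : k[T;T⁻¹][T;T⁻¹] :=
  (Scheme.ΓSpecIso (CommRingCat.of k[T;T⁻¹][T;T⁻¹])).hom
    (Red.gmFn (hmul h (ptOfUnit (xU k)) (ptOfUnit (yU k))))

lemma isUnit_lawElt : IsUnit (lawElt h) := by
  have h1 : IsUnit (Red.gmFn (hmul h (ptOfUnit (xU k)) (ptOfUnit (yU k))) :
      Γ(Spec (CommRingCat.of k[T;T⁻¹][T;T⁻¹]), ⊤)) := isUnit_gmFn _
  exact RingHom.isUnit_map (Scheme.ΓSpecIso (CommRingCat.of k[T;T⁻¹][T;T⁻¹])).hom.hom h1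

/-- the coordinate of the unit of the group law `h` -/
noncomputable def unitConst : k :=
  (Scheme.ΓSpecIso (CommRingCat.of k)).hom
    (Red.gmFn h.one : Γ(Spec (CommRingCat.of k), ⊤))

lemma unitConst_ne_zero : unitConst h ≠ 0 := by
  have h1 : IsUnit (Red.gmFn h.one : Γ(Spec (CommRingCat.of k), ⊤)) := isUnit_gmFn _
  exact (RingHom.isUnit_map (Scheme.ΓSpecIso (CommRingCat.of k)).hom.hom h1).ne_zero

lemma gmFn_hone (W : Over (Spec (CommRingCat.of k))) :
    Red.gmFn (hone h W) = (sectStr W).hom (unitConst h) := by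
  unfold hone
  rw [gmFn_comp, toUnit_left_eq]
  unfold sectStr unitConst
  change _ = W.hom.appTop ((Scheme.ΓSpecIso (CommRingCat.of k)).inv
    ((Scheme.ΓSpecIso (CommRingCat.of k)).hom _))
  rw [Iso.hom_inv_id_apply]

/-- The group law `h` is given by the Laurent polynomial `lawElt h`. -/
theorem gmFn_hmul {W : Over (Spec (CommRingCat.of k))}
    (a b : W ⟶ Red.Gm (Spec (CommRingCat.of k))) :
    Red.gmFn (hmul h a b) = gmOp (lawElt h) (sectStr W).hom (unitOfPt a) (unitOfPt b) := by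
  let ρ : CommRingCat.of k[T;T⁻¹][T;T⁻¹] ⟶ Γ(W.left, ⊤) :=
    CommRingCat.ofHom (LaurentPolynomial.eval₂
      (LaurentPolynomial.eval₂ (sectStr W).hom (unitOfPt b)) (unitOfPt a))
  have hρ : CommRingCat.ofHom (strL₂ k) ≫ ρ = sectStr W := by
    ext c
    change LaurentPolynomial.eval₂ _ _ (C (C c)) = _
    rw [eval₂_C, eval₂_C]
  let g : W ⟶ torus₂ k := toSpecOver W _ ρ hρ
  have hg : ∀ r, g.left.appTop ((Scheme.ΓSpecIso (CommRingCat.of k[T;T⁻¹][T;T⁻¹])).inv r)
      = ρ r := toSpecOver_appTop_apply W _ ρ hρ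
  have ha : g ≫ ptOfUnit (xU k) = a := by
    apply gmFn_injective
    change Red.gmFn (g ≫ ptOfUnit (xU k)) = Red.gmFn a
    rw [gmFn_comp, gmFn_ptOfUnit]
    change g.left.appTop ((Scheme.ΓSpecIso (CommRingCat.of k[T;T⁻¹][T;T⁻¹])).inv (T 1)) = _
    rw [hg]
    change LaurentPolynomial.eval₂ _ _ (T 1) = _
    rw [eval₂_T, zpow_one, val_unitOfPt]
  have hb : g ≫ ptOfUnit (yU k) = b := by
    apply gmFn_injective
    change Red.gmFn (g ≫ ptOfUnit (yU k)) = Red.gmFn b
    rw [gmFn_comp, gmFn_ptOfUnit]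
    change g.left.appTop ((Scheme.ΓSpecIso (CommRingCat.of k[T;T⁻¹][T;T⁻¹])).inv (C (T 1))) = _
    rw [hg]
    change LaurentPolynomial.eval₂ _ _ (C (T 1)) = _
    rw [eval₂_C, eval₂_T, zpow_one, val_unitOfPt]
  have key : hmul h a b = g ≫ hmul h (ptOfUnit (xU k)) (ptOfUnit (yU k)) := by
    rw [comp_hmul, ha, hb]
  rw [key, gmFn_comp]
  have h1 : Red.gmFn (hmul h (ptOfUnit (xU k)) (ptOfUnit (yU k))) =
      (Scheme.ΓSpecIso (CommRingCat.of k[T;T⁻¹][T;T⁻¹])).inv (lawElt h) := by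
    unfold lawElt
    rw [Iso.hom_inv_id_apply]
  rw [h1, hg]
  rfl

/-- the one-dimensional torus -/
noncomputable abbrev torus₁ (k : Type u) [Field k] : Over (Spec (CommRingCat.of k)) :=
  specOver (CommRingCat.ofHom (C : k →+* k[T;T⁻¹]))

/-- the coordinate on the one-dimensional torus -/
noncomputable def tU (k : Type u) [Field k] : (Γ((torus₁ k).left, ⊤))ˣ :=
  Units.map (Scheme.ΓSpecIso (CommRingCat.of k[T;T⁻¹])).inv.hom.toMonoidHom (tUnit k)

lemma lawElt_eq :
    lawElt h = C (C (unitConst h)⁻¹ * T 1) * T 1 := by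
  refine gm_law_eq (lawElt h) (isUnit_lawElt h) (unitConst h) (unitConst_ne_zero h) ?_ ?_
  · have h1 := gmFn_hmul h (ptOfUnit (tU k)) (hone h (torus₁ k))
    rw [hmul_hone] at h1
    have h2 := congrArg (Scheme.ΓSpecIso (CommRingCat.of k[T;T⁻¹])).hom.hom h1
    rw [map_gmOp] at h2
    have e0 : (Scheme.ΓSpecIso (CommRingCat.of k[T;T⁻¹])).hom.hom (Red.gmFn (ptOfUnit (tU k)))
        = T 1 := by
      rw [gmFn_ptOfUnit]
      change (Scheme.ΓSpecIso (CommRingCat.of k[T;T⁻¹])).hom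
        ((Scheme.ΓSpecIso (CommRingCat.of k[T;T⁻¹])).inv (T 1)) = T 1
      rw [Iso.inv_hom_id_apply]
    have e1 : (Scheme.ΓSpecIso (CommRingCat.of k[T;T⁻¹])).hom.hom.comp (sectStr (torus₁ k)).hom
        = (C : k →+* k[T;T⁻¹]) := by
      rw [sectStr_specOver]
      refine RingHom.ext fun c => ?_
      change (Scheme.ΓSpecIso (CommRingCat.of k[T;T⁻¹])).hom
        ((Scheme.ΓSpecIso (CommRingCat.of k[T;T⁻¹])).inv (C c)) = C c
      rw [Iso.inv_hom_id_apply]
    have e2 : Units.map (Scheme.ΓSpecIso (CommRingCat.of k[T;T⁻¹])).hom.hom.toMonoidHom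
        (unitOfPt (ptOfUnit (tU k))) = tUnit k := by
      apply Units.ext
      rw [Units.coe_map, unitOfPt_ptOfUnit]
      change (Scheme.ΓSpecIso (CommRingCat.of k[T;T⁻¹])).hom
        ((Scheme.ΓSpecIso (CommRingCat.of k[T;T⁻¹])).inv (T 1)) = T 1
      rw [Iso.inv_hom_id_apply]
    have e3 : Units.map (Scheme.ΓSpecIso (CommRingCat.of k[T;T⁻¹])).hom.hom.toMonoidHom
        (unitOfPt (hone h (torus₁ k))) = cUnit (unitConst h) (unitConst_ne_zero h) := by
      apply Units.ext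
      rw [Units.coe_map, val_unitOfPt, gmFn_hone]
      exact congrArg (fun φ : k →+* k[T;T⁻¹] => φ (unitConst h)) e1
    rw [e0, e1, e2, e3] at h2
    exact h2.symm
  · have h1 := gmFn_hmul h (hone h (torus₁ k)) (ptOfUnit (tU k))
    rw [hone_hmul] at h1
    have h2 := congrArg (Scheme.ΓSpecIso (CommRingCat.of k[T;T⁻¹])).hom.hom h1
    rw [map_gmOp] at h2
    have e0 : (Scheme.ΓSpecIso (CommRingCat.of k[T;T⁻¹])).hom.hom (Red.gmFn (ptOfUnit (tU k)))
        = T 1 := by
      rw [gmFn_ptOfUnit]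
      change (Scheme.ΓSpecIso (CommRingCat.of k[T;T⁻¹])).hom
        ((Scheme.ΓSpecIso (CommRingCat.of k[T;T⁻¹])).inv (T 1)) = T 1
      rw [Iso.inv_hom_id_apply]
    have e1 : (Scheme.ΓSpecIso (CommRingCat.of k[T;T⁻¹])).hom.hom.comp (sectStr (torus₁ k)).hom
        = (C : k →+* k[T;T⁻¹]) := by
      rw [sectStr_specOver]
      refine RingHom.ext fun c => ?_
      change (Scheme.ΓSpecIso (CommRingCat.of k[T;T⁻¹])).hom
        ((Scheme.ΓSpecIso (CommRingCat.of k[T;T⁻¹])).inv (C c)) = C c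
      rw [Iso.inv_hom_id_apply]
    have e2 : Units.map (Scheme.ΓSpecIso (CommRingCat.of k[T;T⁻¹])).hom.hom.toMonoidHom
        (unitOfPt (ptOfUnit (tU k))) = tUnit k := by
      apply Units.ext
      rw [Units.coe_map, unitOfPt_ptOfUnit]
      change (Scheme.ΓSpecIso (CommRingCat.of k[T;T⁻¹])).hom
        ((Scheme.ΓSpecIso (CommRingCat.of k[T;T⁻¹])).inv (T 1)) = T 1
      rw [Iso.inv_hom_id_apply]
    have e3 : Units.map (Scheme.ΓSpecIso (CommRingCat.of k[T;T⁻¹])).hom.hom.toMonoidHom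
        (unitOfPt (hone h (torus₁ k))) = cUnit (unitConst h) (unitConst_ne_zero h) := by
      apply Units.ext
      rw [Units.coe_map, val_unitOfPt, gmFn_hone]
      exact congrArg (fun φ : k →+* k[T;T⁻¹] => φ (unitConst h)) e1
    rw [e0, e1, e2, e3] at h2
    exact h2.symm

end

/-- Two group laws on the punctured line over a field with the same unit are equal. -/
theorem gm_mul_eq_of_one_eq (h₁ h₂ : GrpObj (Red.Gm (Spec (CommRingCat.of k))))
    (e : h₁.one = h₂.one) : h₁.mul = h₂.mul := by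
  have hc : unitConst h₁ = unitConst h₂ := by
    unfold unitConst
    rw [e]
  have hm : lawElt h₁ = lawElt h₂ := by
    rw [lawElt_eq, lawElt_eq, hc]
  have key : ∀ h : GrpObj (Red.Gm (Spec (CommRingCat.of k))),
      h.mul = hmul h (fst _ _) (snd _ _) := by
    intro h
    unfold hmul
    rw [lift_fst_snd, Category.id_comp]
  rw [key h₁, key h₂]
  apply gmFn_injective
  change Red.gmFn (hmul h₁ _ _) = Red.gmFn (hmul h₂ _ _)
  rw [gmFn_hmul, gmFn_hmul, hm]

end Groth.Agent.Lib.Helper19.GaGm.Gm
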