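import Mathlib
import Groth.Prelude.Def_GmPts
import Groth.Agent.Lib.Helper19.GaGm.GmUnique

/-!
# A group law on `Spec k[T, T⁻¹]` with unit `T = 1` is the multiplicative group
-/

set_option autoImplicit false
universe u

open CategoryTheory CategoryTheory.Limits AlgebraicGeometry MonoidalCategory
  CartesianMonoidalCategory MonObj GrpObj Opposite
open GmPts (ptOfUnit unitOfPt gmFn_ptOfUnit ptOfUnit_unitOfPt unitOfPt_ptOfUnit gmFn_comp
  gmFn_injective isUnit_gmFn val_unitOfPt)
open LaurentPolynomial

namespace Groth.Agent.Lib.Helper19.GaGm.Gm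

/-- Ring homomorphisms out of Laurent polynomials are determined by their values on constants and
on the variable. -/
lemma laurent_ringHom_ext {R A : Type*} [CommRing R] [CommRing A] {f g : R[T;T⁻¹] →+* A}
    (hC : ∀ a, f (C a) = g (C a)) (hT : f (T 1) = g (T 1)) : f = g := by
  have hu : Units.map f.toMonoidHom (tUnit R) = Units.map g.toMonoidHom (tUnit R) :=
    Units.ext hT
  have hTn : ∀ n : ℤ, f (T n) = g (T n) := by
    intro n
    have h1 : f (T n) = ((Units.map f.toMonoidHom (tUnit R) ^ n : Aˣ) : A) := by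
      rw [← map_zpow, Units.coe_map, val_tUnit_zpow]; rfl
    have h2 : g (T n) = ((Units.map g.toMonoidHom (tUnit R) ^ n : Aˣ) : A) := by
      rw [← map_zpow, Units.coe_map, val_tUnit_zpow]; rfl
    rw [h1, h2, hu]
  refine RingHom.ext fun p => ?_
  induction p using LaurentPolynomial.induction_on' with
  | add p q hp hq => rw [map_add, map_add, hp, hq]
  | C_mul_T n a => rw [map_mul, map_mul, hC, hTn]

variable {k : Type u} [Field k]

section

variable (G : Over (Spec (CommRingCat.of k)))
  (e : G.left ≅ Spec (CommRingCat.of (LaurentPolynomial k)))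
  (he : e.hom ≫ Spec.map (CommRingCat.ofHom (algebraMap k (LaurentPolynomial k))) = G.hom)

/-- the coordinate of a point of `G` -/
noncomputable def coord {W : Over (Spec (CommRingCat.of k))} (a : W ⟶ G) : Γ(W.left, ⊤) :=
  (a.left ≫ e.hom).appTop.hom
    ((Scheme.ΓSpecIso (CommRingCat.of (LaurentPolynomial k))).inv.hom (T 1))

/-- the coordinate function on `G` as a unit -/
noncomputable def coordUnit : (Γ(G.left, ⊤))ˣ :=
  Units.map ((Scheme.ΓSpecIso (CommRingCat.of (LaurentPolynomial k))).inv ≫
    e.hom.appTop).hom.toMonoidHom (tUnit k)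

/-- the comparison morphism from `G` to the multiplicative group -/
noncomputable def toGm : G ⟶ Red.Gm (Spec (CommRingCat.of k)) := ptOfUnit (coordUnit G e)

lemma gmFn_comp_toGm {W : Over (Spec (CommRingCat.of k))} (a : W ⟶ G) :
    Red.gmFn (a ≫ toGm G e) = coord G e a := by
  unfold toGm coord
  rw [gmFn_comp, gmFn_ptOfUnit, Scheme.Hom.comp_appTop]
  rfl

/-- morphisms into an affine `k`-scheme are determined by the induced map on global sections -/
lemma specOver_hom_ext {W : Over (Spec (CommRingCat.of k))} {R : CommRingCat.{u}}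
    (a : CommRingCat.of k ⟶ R) (f g : W ⟶ specOver a)
    (h : (Scheme.ΓSpecIso R).inv ≫ f.left.appTop = (Scheme.ΓSpecIso R).inv ≫ g.left.appTop) :
    f = g :=
  Over.OverMorphism.ext (ext_to_Spec h)

/-- the universal Laurent polynomial evaluation on the multiplicative group -/
noncomputable def gmEval : CommRingCat.of k[T;T⁻¹] ⟶
    Γ((Red.Gm (Spec (CommRingCat.of k))).left, ⊤) :=
  CommRingCat.ofHom (LaurentPolynomial.eval₂ (sectStr (Red.Gm (Spec (CommRingCat.of k)))).hom
    (unitOfPt (𝟙 (Red.Gm (Spec (CommRingCat.of k))))))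

lemma gmEval_str : CommRingCat.ofHom (C : k →+* k[T;T⁻¹]) ≫ gmEval (k := k) =
    sectStr (Red.Gm (Spec (CommRingCat.of k))) := by
  ext c
  change LaurentPolynomial.eval₂ _ _ (C c) = _
  rw [eval₂_C]

/-- the multiplicative group maps to the standard punctured line -/
noncomputable def gmToTorus : Red.Gm (Spec (CommRingCat.of k)) ⟶ torus₁ k :=
  toSpecOver _ _ gmEval gmEval_str

include he in
/-- `G` is isomorphic to the standard punctured line as a `k`-scheme -/
noncomputable def isoTorus : G ≅ torus₁ k :=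
  Over.isoMk e (by
    have : (C : k →+* k[T;T⁻¹]) = algebraMap k k[T;T⁻¹] := rfl
    change e.hom ≫ Spec.map (CommRingCat.ofHom (C : k →+* k[T;T⁻¹])) = G.hom
    rw [this]; exact he)

/-- the comparison morphism from the multiplicative group to `G` -/
noncomputable def fromGm : Red.Gm (Spec (CommRingCat.of k)) ⟶ G :=
  gmToTorus ≫ (isoTorus G e he).inv

lemma toGm_gmToTorus : toGm G e ≫ gmToTorus = (isoTorus G e he).hom := by
  apply specOver_hom_ext
  rw [Over.comp_left, Scheme.Hom.comp_appTop, ← Category.assoc]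
  unfold gmToTorus
  rw [toSpecOver_appTop]
  refine CommRingCat.hom_ext (laurent_ringHom_ext (fun c => ?_) ?_)
  · change (toGm G e).left.appTop ((LaurentPolynomial.eval₂ _ _) (C c)) =
      (isoTorus G e he).hom.left.appTop ((Scheme.ΓSpecIso _).inv (C c))
    rw [eval₂_C, sectStr_comp_apply]
    have h1 := sectStr_comp_apply (isoTorus G e he).hom c
    rw [← h1, sectStr_specOver]
    rfl
  · change (toGm G e).left.appTop ((LaurentPolynomial.eval₂ _ _) (T 1)) =
      e.hom.appTop ((Scheme.ΓSpecIso _).inv (T 1))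
    rw [eval₂_T, zpow_one, val_unitOfPt]
    have h1 := gmFn_comp (toGm G e) (𝟙 (Red.Gm (Spec (CommRingCat.of k))))
    rw [Category.comp_id] at h1
    rw [← h1]
    unfold toGm
    rw [gmFn_ptOfUnit]
    rfl

lemma toGm_fromGm : toGm G e ≫ fromGm G e he = 𝟙 G := by
  unfold fromGm
  rw [← Category.assoc, toGm_gmToTorus G e he, Iso.hom_inv_id]

lemma fromGm_toGm : fromGm G e he ≫ toGm G e = 𝟙 _ := by
  apply gmFn_injective
  change Red.gmFn (fromGm G e he ≫ toGm G e) = Red.gmFn (𝟙 (Red.Gm (Spec (CommRingCat.of k))))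
  rw [gmFn_comp_toGm]
  unfold coord fromGm
  have h1 : (gmToTorus ≫ (isoTorus G e he).inv).left ≫ e.hom = (gmToTorus (k := k)).left := by
    rw [Over.comp_left, Category.assoc]
    have : (isoTorus G e he).inv.left ≫ e.hom = 𝟙 _ := e.inv_hom_id
    rw [this, Category.comp_id]
  rw [h1]
  unfold gmToTorus
  have h2 := toSpecOver_appTop_apply (Red.Gm (Spec (CommRingCat.of k))) _ gmEval gmEval_str (T 1)
  refine h2.trans ?_
  change LaurentPolynomial.eval₂ _ _ (T 1) = _
  rw [eval₂_T, zpow_one, val_unitOfPt]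

/-- `G` is isomorphic to the multiplicative group as a `k`-scheme, compatibly with coordinates -/
noncomputable def isoGm : G ≅ Red.Gm (Spec (CommRingCat.of k)) where
  hom := toGm G e
  inv := fromGm G e he
  hom_inv_id := toGm_fromGm G e he
  inv_hom_id := fromGm_toGm G e he

include he in
/-- The coordinate is multiplicative for any group law on `G` whose unit has coordinate `1`. -/
theorem coord_mul [GrpObj G] (hunit : coord G e η[G] = 1)
    {S : Over (Spec (CommRingCat.of k))} (g h : S ⟶ G) :
    coord G e (g * h) = coord G e g * coord G e h := by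
  set E := isoGm G e he with hE
  let h' : GrpObj (Red.Gm (Spec (CommRingCat.of k))) := GrpObj.ofIso E
  have hEhom : E.hom = toGm G e := rfl
  have key : (g * h) ≫ E.hom = hmul h' (g ≫ E.hom) (h ≫ E.hom) := by
    unfold hmul
    have hmul' : h'.mul = (E.inv ⊗ₘ E.inv) ≫ μ[G] ≫ E.hom := rfl
    rw [hmul', ← Category.assoc, lift_map, Category.assoc, Category.assoc, Iso.hom_inv_id,
      Category.comp_id, Category.comp_id, Hom.mul_def, Category.assoc]
  have hone : h'.one = η[G] ≫ E.hom := rfl
  have hc : unitConst h' = 1 := by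
    unfold unitConst
    rw [hone, hEhom, gmFn_comp_toGm, hunit, map_one]
  have hlaw : lawElt h' = C (C (1 : k) * T 1) * T 1 := by
    rw [lawElt_eq, hc, inv_one]
  have h1 := gmFn_hmul h' (g ≫ E.hom) (h ≫ E.hom)
  rw [← key, hlaw, hEhom, gmFn_comp_toGm] at h1
  rw [h1]
  unfold gmOp
  rw [eval₂_C_mul_T, eval₂_C_mul_T, zpow_one, zpow_one, map_one, _root_.one_mul, val_unitOfPt,
    val_unitOfPt, gmFn_comp_toGm, gmFn_comp_toGm, _root_.mul_comm]

end

end Groth.Agent.Lib.Helper19.GaGm.Gm
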